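import Cfsg.Agent.H402.Rec.Cand
import Cfsg.Agent.H953.RecLin
import Cfsg.Agent.H744.RecSp
import Cfsg.Agent.H744.RecOrth
import Cfsg.Agent.H868.RecSz
import Cfsg.Agent.H868.RecPsl2
import Cfsg.Agent.H587.Rec.Three
import Cfsg.Agent.H542.NineExc
import Cfsg.Agent.H542.RecG2
import Cfsg.Agent.H542.RecTF4
import Cfsg.Agent.S0822
import Cfsg.Prelude.Def_LieTypeChar
import Cfsg.Prelude.Def_Classification2

/-!
# Recognition of `PSL_4(q)`, `PSU_4(q)`, `q = 3 ^ k`: the groups of characteristic different from 3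
-/

set_option autoImplicit false

namespace Cfsg.Agent.H402.Rec

open Cfsg

namespace Cand3

variable {e : Bool} {k : ℕ} {S : Type*} [Group S]

theorem charP_three (F : Type*) [Field F] (h3 : (3 : F) = 0) : CharP F 3 := by
  have h1 : ringChar F ∣ 3 := (ringChar.spec F 3).1 (by exact_mod_cast h3)
  have h2 : ringChar F = 3 := by
    rcases (Nat.dvd_prime Nat.prime_three).1 h1 with h4 | h4
    · exact absurd h4 (CharP.ringChar_ne_one)
    · exact h4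
  rw [← h2]
  exact ringChar.charP F

theorem false_of_nine (h : Cand3 e k S) {T : Type*} [Group T] (E : S ≃* T) (hT : ∃ x : T, 9 ∣ orderOf x ∧ orderOf x ≠ 9) :
    False := by
  obtain ⟨x, h1, h2⟩ := hT
  exact h2 ((h.of_equiv E).nine h1)

/-- **All rows except `²B₂`, `²F₄`.** -/
theorem main_aux [Finite S] (h : Cand3 e k S) (hk : IsKnownSimple' S) (hnc : ¬ IsMulCommutative S)
    (hF4 : ¬ Lie.Iso2F4 S) (hSz : ¬ Lie.IsoSuzuki S) :
    IsAlternating S ∨ IsSporadicGroup S ∨ Lie.IsoTits S ∨ IsLieTypeChar 3 S ∨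
      (e = true ∧ k = 1 ∧ ∃ (F : Type) (_ : Field F) (_ : Fintype F), Fintype.card F = 25 ∧
        Nonempty (S ≃* Matrix.ProjectiveSpecialLinearGroup (Fin 2) F)) := by
  rcases hk with h1 | h1 | h1 | h1 | h1 | h1 | h1 | h1 | h1 | h1
  · exfalso
    apply hnc
    have hp : Fact (Nat.card S).Prime := ⟨h1⟩
    have := isCyclic_of_prime_card (α := S) (p := Nat.card S) rfl
    exact ⟨⟨fun a b => (IsCyclic.commGroup (α := S)).mul_comm a b⟩⟩
  · exact Or.inl h1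
  · -- `PSL`
    obtain ⟨F, iF, iF', n, hn, h4, ⟨E⟩⟩ := h1
    by_cases h3 : (3 : F) = 0
    · exact Or.inr (Or.inr (Or.inr (Or.inl (Or.inl ⟨F, iF, iF', charP_three F h3, n, hn, h4, ⟨E⟩⟩))))
    · rcases Nat.lt_or_ge n 4 with h5 | h5
      · have h6 : n = 2 ∨ n = 3 := by omega
        rcases h6 with rfl | rfl
        · obtain ⟨e1, e2, e3⟩ := Cfsg.Agent.H868.Rec.psl2 h h3 (h4 rfl) E
          exact Or.inr (Or.inr (Or.inr (Or.inr ⟨e1, e2, F, iF, iF', e3, ⟨E⟩⟩)))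
        · exact (Cfsg.Agent.H587.Rec.psl3 h h3 E).elim
      · exact (Cfsg.Agent.H953.RecLin.psl h h3 h5 E).elim
  · -- `PSp`
    obtain ⟨F, iF, iF', m, hm, h4, ⟨E⟩⟩ := h1
    by_cases h3 : (3 : F) = 0
    · exact Or.inr (Or.inr (Or.inr (Or.inl (Or.inr (Or.inl ⟨F, iF, iF', charP_three F h3, m, hm, h4, ⟨E⟩⟩)))))
    · exact (Cfsg.Agent.H744.Rec.psp h h3 hm h4 E).elim
  · -- `PSU`
    obtain ⟨F, iF, iF', n, q, hF, hn, h32, ⟨E⟩⟩ := h1
    by_cases h3 : (3 : F) = 0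
    · exact Or.inr (Or.inr (Or.inr (Or.inl (Or.inr (Or.inr (Or.inl
        ⟨F, iF, iF', charP_three F h3, n, q, hF, hn, h32, ⟨E⟩⟩))))))
    · rcases Nat.lt_or_ge n 4 with h5 | h5
      · obtain rfl : n = 3 := by omega
        exact (Cfsg.Agent.H587.Rec.psu3 h hF h3 (fun h6 => h32 ⟨rfl, h6⟩) E).elim
      · by_cases h42 : n = 4 ∧ q = 2
        · obtain ⟨rfl, rfl⟩ := h42
          obtain ⟨E'⟩ := S0822.result (F := F) (K := ZMod 3) (by rw [hF]; rfl) (ZMod.card 3)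
          right; right; right; left; right; left
          exact ⟨ZMod 3, inferInstance, inferInstance, inferInstance, 2, le_rfl, fun _ => by rw [ZMod.card 3],
            ⟨E.trans E'⟩⟩
        · exact (Cfsg.Agent.H953.RecLin.psu h hF h3 h5 h42 E).elim
  · -- `PΩ` odd
    obtain ⟨F, iF, iF', m, hm, ho, ⟨E⟩⟩ := h1
    by_cases h3 : (3 : F) = 0
    · exact Or.inr (Or.inr (Or.inr (Or.inl (Or.inr (Or.inr (Or.inr (Or.inl
        ⟨F, iF, iF', charP_three F h3, m, hm, ho, ⟨E⟩⟩)))))))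
    · exact (Cfsg.Agent.H744.Rec.podd h ho h3 hm E).elim
  · obtain ⟨F, iF, iF', m, hm, ⟨E⟩⟩ := h1
    by_cases h3 : (3 : F) = 0
    · exact Or.inr (Or.inr (Or.inr (Or.inl (Or.inr (Or.inr (Or.inr (Or.inr (Or.inl
        ⟨F, iF, iF', charP_three F h3, m, hm, ⟨E⟩⟩))))))))
    · exact (Cfsg.Agent.H744.Rec.pplus h h3 hm E).elim
  · obtain ⟨F, iF, iF', m, a, b, hm, hab, ⟨E⟩⟩ := h1
    by_cases h3 : (3 : F) = 0
    · exact Or.inr (Or.inr (Or.inr (Or.inl (Or.inr (Or.inr (Or.inr (Or.inr (Or.inr (Or.inl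
        ⟨F, iF, iF', charP_three F h3, m, a, b, hm, hab, ⟨E⟩⟩)))))))))
    · exact (Cfsg.Agent.H744.Rec.pminus h h3 hm a b hab E).elim
  · -- exceptional groups
    have chev : ∀ (F : Type) (_ : Field F) (_ : Fintype F), (3 : F) = 0 →
        ((3 ≤ Fintype.card F ∧ Nonempty (S ≃* Lie.chevG2.group F)) ∨ Nonempty (S ≃* Lie.chevF4.group F) ∨
        Nonempty (S ≃* Lie.chevE6.group F) ∨ Nonempty (S ≃* Lie.chevE7.group F) ∨ Nonempty (S ≃* Lie.chevE8.group F)) →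
        IsLieTypeChar 3 S := fun F iF iF' h3 hx =>
      Or.inr (Or.inr (Or.inr (Or.inr (Or.inr (Or.inr (Or.inl ⟨F, iF, iF', charP_three F h3, hx⟩))))))
    have tw : ∀ (K : Type) (_ : Field K) (_ : Fintype K) (q : ℕ), (3 : K) = 0 → IsPrimePow q →
        ((Fintype.card K = q ^ 2 ∧ Nonempty (S ≃* Lie.twistedE6 K q)) ∨
          (Fintype.card K = q ^ 3 ∧ Nonempty (S ≃* Lie.twistedD4 K q))) →
        IsLieTypeChar 3 S := fun K iK iK' q h3 hq hx =>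
      Or.inr (Or.inr (Or.inr (Or.inr (Or.inr (Or.inr (Or.inr (Or.inl ⟨K, iK, iK', charP_three K h3, q, hq, hx⟩)))))))
    rcases h1 with h1 | h1 | h1 | h1 | h1 | h1 | h1 | h1 | h1 | h1 | h1
    · obtain ⟨F, iF, iF', hc, ⟨E⟩⟩ := h1
      by_cases h3 : (3 : F) = 0
      · exact Or.inr (Or.inr (Or.inr (Or.inl (chev F iF iF' h3 (Or.inl ⟨hc, ⟨E⟩⟩)))))
      · exact (Cfsg.Agent.H542.RecG2.g2 h h3 E hc).elim
    · obtain ⟨F, iF, iF', ⟨E⟩⟩ := h1
      by_cases h3 : (3 : F) = 0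
      · exact Or.inr (Or.inr (Or.inr (Or.inl (chev F iF iF' h3 (Or.inr (Or.inl ⟨E⟩))))))
      · exact (h.false_of_nine E (Cfsg.Agent.H542.NineExc.f4 h3)).elim
    · obtain ⟨F, iF, iF', ⟨E⟩⟩ := h1
      by_cases h3 : (3 : F) = 0
      · exact Or.inr (Or.inr (Or.inr (Or.inl (chev F iF iF' h3 (Or.inr (Or.inr (Or.inl ⟨E⟩)))))))
      · exact (h.false_of_nine E (Cfsg.Agent.H542.NineExc.e6 h3)).elim
    · obtain ⟨F, iF, iF', ⟨E⟩⟩ := h1
      by_cases h3 : (3 : F) = 0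
      · exact Or.inr (Or.inr (Or.inr (Or.inl (chev F iF iF' h3 (Or.inr (Or.inr (Or.inr (Or.inl ⟨E⟩))))))))
      · exact (h.false_of_nine E (Cfsg.Agent.H542.NineExc.e7 h3)).elim
    · obtain ⟨F, iF, iF', ⟨E⟩⟩ := h1
      by_cases h3 : (3 : F) = 0
      · exact Or.inr (Or.inr (Or.inr (Or.inl (chev F iF iF' h3 (Or.inr (Or.inr (Or.inr (Or.inr ⟨E⟩))))))))
      · exact (h.false_of_nine E (Cfsg.Agent.H542.NineExc.e8 h3)).elim
    · obtain ⟨K, iK, iK', q, hq, hK, ⟨E⟩⟩ := h1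
      by_cases h3 : (3 : K) = 0
      · exact Or.inr (Or.inr (Or.inr (Or.inl (tw K iK iK' q h3 hq (Or.inl ⟨hK, ⟨E⟩⟩)))))
      · exact (h.false_of_nine E (Cfsg.Agent.H542.NineExc.te6 h3 hq hK)).elim
    · obtain ⟨K, iK, iK', q, hq, hK, ⟨E⟩⟩ := h1
      by_cases h3 : (3 : K) = 0
      · exact Or.inr (Or.inr (Or.inr (Or.inl (tw K iK iK' q h3 hq (Or.inr ⟨hK, ⟨E⟩⟩)))))
      · exact (h.false_of_nine E (Cfsg.Agent.H542.NineExc.td4 h3 hq hK)).elim
    · exact absurd h1 hSz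
    · exact Or.inr (Or.inr (Or.inr (Or.inl (Or.inr (Or.inr (Or.inr (Or.inr (Or.inr (Or.inr (Or.inr (Or.inr (Or.inr (Or.inr ⟨rfl, h1⟩)))))))))))))
    · exact absurd h1 hF4
    · exact Or.inr (Or.inr (Or.inl h1))
  · exact Or.inr (Or.inl h1)

/-- **All rows, `PSL_4(3 ^ k)`.** -/
theorem main_true [Finite S] (h : Cand3 true k S) (hk : IsKnownSimple' S) (hnc : ¬ IsMulCommutative S) :
    IsAlternating S ∨ IsSporadicGroup S ∨ Lie.IsoTits S ∨ IsLieTypeChar 3 S ∨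
      (k = 1 ∧ ∃ (F : Type) (_ : Field F) (_ : Fintype F), Fintype.card F = 25 ∧
        Nonempty (S ≃* Matrix.ProjectiveSpecialLinearGroup (Fin 2) F)) := by
  rcases h.main_aux hk hnc (fun h1 => Cfsg.Agent.H542.RecTF4.f42' h h1) (fun h1 => Cfsg.Agent.H868.Rec.sz h h1) with
    h1 | h1 | h1 | h1 | ⟨-, h1⟩
  · exact Or.inl h1
  · exact Or.inr (Or.inl h1)
  · exact Or.inr (Or.inr (Or.inl h1))
  · exact Or.inr (Or.inr (Or.inr (Or.inl h1)))
  · exact Or.inr (Or.inr (Or.inr (Or.inr h1)))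

/-- **All rows, `PSU_4(3 ^ k)`, `k ≥ 2`.** -/
theorem main_false [Finite S] (h : Cand3 false k S) (hk : IsKnownSimple' S) (hnc : ¬ IsMulCommutative S) :
    IsAlternating S ∨ IsSporadicGroup S ∨ Lie.IsoTits S ∨ IsLieTypeChar 3 S ∨ Lie.IsoSuzuki S ∨ Lie.Iso2F4 S := by
  by_cases h4 : Lie.Iso2F4 S
  · exact Or.inr (Or.inr (Or.inr (Or.inr (Or.inr h4))))
  by_cases hz : Lie.IsoSuzuki S
  · exact Or.inr (Or.inr (Or.inr (Or.inr (Or.inl hz))))
  rcases h.main_aux hk hnc h4 hz with h1 | h1 | h1 | h1 | ⟨h1, -⟩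
  · exact Or.inl h1
  · exact Or.inr (Or.inl h1)
  · exact Or.inr (Or.inr (Or.inl h1))
  · exact Or.inr (Or.inr (Or.inr (Or.inl h1)))
  · exact Bool.noConfusion h1

end Cand3

end Cfsg.Agent.H402.Rec
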