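import Cfsg.Agent.H402.Rec.Final
import Cfsg.Agent.H402.Rec.Spec
import Cfsg.Agent.H402.Rec.RowsTwo
import Cfsg.Agent.H402.Rec.RowsThree
import Cfsg.Agent.H402.Rec.Psl25
import Cfsg.Agent.H363.L4.CoverNe
import Cfsg.Agent.H363.L4.OutI
import Cfsg.Agent.H362.SpecL4
import Cfsg.Agent.S0000
import Cfsg.Agent.S3457

/-!
# Recognition of `PSL_4(q)`, `q` a power of 2 or 3, by the set of element orders (S3456)
-/

set_option autoImplicit false

namespace Cfsg.Agent.H402.Rec

open Subgroup Cfsg Cfsg.Agent.H403 Cfsg.Agent.H363.L4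

universe u v

variable {G : Type u} [Group G] [Finite G] {F : Type v} [Field F] [Fintype F]

/-- The last step: covers and almost simple groups. -/
theorem finish_lin {p : ℕ} (hp : p = 2 ∨ p = 3) [CharP F p]
    (h : Set.range (orderOf : G → ℕ) = Set.range (orderOf : L4 F → ℕ)) {K : Subgroup G} [K.Normal]
    {S : Subgroup (G ⧸ K)} [S.Normal] (hs : Sect G K S) (e : ↥S ≃* L4 F) : Nonempty (G ≃* L4 F) := by
  have hpp : p.Prime := by
    rcases hp with rfl | rfl
    · exact Nat.prime_two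
    · exact Nat.prime_three
  refine Cfsg.Agent.H414.SpecFrame.finish (G := G) (L := L4 F) ?_ hs.solv hs.cent e ?_ ?_
  · intro x
    have : orderOf x ∈ Set.range (orderOf : L4 F → ℕ) := by
      rw [← h]
      exact ⟨x, rfl⟩
    exact this
  · intro X _ _ V _ w hw hVc hVp hV1 f hω
    have hsimple := hs.simple
    have h1 : IsSimpleGroup (X ⧸ V) := ((f.trans e.symm).isSimpleGroup_congr).2 hsimple
    by_cases hwp : w = p
    · subst hwp
      rcases hp with rfl | rfl
      · exact Cfsg.Agent.H362.SpecL4.cover_two V hVc hVp hV1 f hω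
      · exact Cfsg.Agent.H362.SpecL4.cover_three V hVc hVp hV1 f hω
    · exact cover_ne hpp V hw hwp hVc hVp hV1 f hω
  · intro X _ _ T _ f hC hω
    exact Out.almost hp T f hC hω

theorem main_lin (p : ℕ) [CharP F p] (hp : p = 2 ∨ p = 3)
    (h : Set.range (orderOf : G → ℕ) = Set.range (orderOf : L4 F → ℕ)) : Nonempty (G ≃* L4 F) := by
  by_cases h2 : Fintype.card F = 2
  · exact Cfsg.Agent.S3457.result h2 4 (by norm_num) h
  have hL : IsL (L4 F) true 4 (Fintype.card F) F := ⟨MulEquiv.refl _⟩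
  obtain ⟨n, hpp, hn⟩ := FiniteField.card F p
  have hn1 : 1 ≤ (n : ℕ) := n.2
  obtain ⟨k, hk⟩ : ∃ k : ℕ, k = (n : ℕ) := ⟨_, rfl⟩
  rw [← hk] at hn hn1
  have hfact : Fact p.Prime := ⟨hpp⟩
  have hcard : Fintype.card F = Fintype.card F ^ (cond true 0 1 + 1) := by simp
  suffices hS : ∃ (K : Subgroup G) (_ : K.Normal) (S : Subgroup (G ⧸ K)) (_ : S.Normal), Sect G K S ∧
      (IsAlternating ↥S ∨ IsSporadicGroup ↥S ∨ Lie.IsoTits ↥S ∨ IsLieTypeChar p ↥S) by
    obtain ⟨K, hK, S, hSn, hs, hrow⟩ := hS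
    obtain ⟨e⟩ := hs.iso p h2 hL hcard h hrow
    exact finish_lin hp h hs e
  rcases hp with rfl | rfl
  · have hk2 : 2 ≤ k := by
      rcases Nat.lt_or_ge k 2 with h3 | h3
      · exfalso
        apply h2
        rw [hn, show k = 1 by omega, pow_one]
      · exact h3
    rw [hn] at hL
    have hcard' : Fintype.card F = (2 ^ k) ^ (cond true 0 1 + 1) := by rw [hn]; simp
    have hf := (fact2 hL hcard' hk2).of_range h
    have h22 : ∃ x : G, orderOf x = 2 := by
      have h3 : (2 : ℕ) ∈ Set.range (orderOf : L4 F → ℕ) := exists_two hL hcard' hn1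
      rw [← h] at h3
      exact h3
    have hna := no_alt (q := 2 ^ k) (by rw [← hn]; exact h2) hL hcard' h
    obtain ⟨K, hK, S, hSn, hs, hc⟩ := hf.exists_sect h22 hna
    refine ⟨K, hK, S, hSn, hs, ?_⟩
    have hsimple := hs.simple
    rcases Cand2.main hc Cfsg.Agent.S0000.result hs.nonab with h3 | h3 | h3
    · exact Or.inl h3
    · exact Or.inr (Or.inl h3)
    · exact Or.inr (Or.inr (Or.inr h3))
  · rw [hn] at hL
    have hcard' : Fintype.card F = (3 ^ k) ^ (cond true 0 1 + 1) := by rw [hn]; simp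
    have hf := (fact3 hL hcard' hn1 (by simp)).of_range h
    obtain ⟨K, hK, S, hSn, hs, hc⟩ := hf.exists_sect
    refine ⟨K, hK, S, hSn, hs, ?_⟩
    have hsimple := hs.simple
    rcases Cand3.main_true hc Cfsg.Agent.S0000.result hs.nonab with h3 | h3 | h3 | h3 | ⟨rfl, F', _, _, hF', ⟨E⟩⟩
    · exact Or.inl h3
    · exact Or.inr (Or.inl h3)
    · exact Or.inr (Or.inr (Or.inl h3))
    · exact Or.inr (Or.inr (Or.inr h3))
    · exact (hf.not_psl25 K S hs.cent hF' E).elim

end Cfsg.Agent.H402.Rec
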