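import Cfsg.Agent.H402.Rec.FactU
import Cfsg.Agent.H421.Rec.U4L2
import Cfsg.Agent.H402.Rec.Psl25
import Cfsg.Prelude.Def_LieTypeChar

/-!
# The exceptional clause `S = PSL_2(u)`, `u` odd, `p ≥ 5`, `q ≡ 3 (mod 4)`
-/

set_option autoImplicit false

namespace Cfsg.Agent.H402.Rec

open Subgroup Cfsg Cfsg.Agent.H945.UF Cfsg.Agent.H421.U4

variable {p q : ℕ} {G : Type*} [Group G] [Finite G]

theorem gcd_eq {q : ℕ} (hq : 1 ≤ q) : Nat.gcd 3 (q ^ 2 - q + 1) = Nat.gcd 3 (q + 1) := by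
  obtain ⟨t, rfl⟩ : ∃ t, q = t + 1 := ⟨q - 1, by omega⟩
  have e1 : (t + 1) ^ 2 - (t + 1) + 1 = t ^ 2 + t + 1 := by
    have : (t + 1) ^ 2 = t ^ 2 + t + (t + 1) := by ring
    omega
  rw [e1]
  have key : 3 ∣ t ^ 2 + t + 1 ↔ 3 ∣ t + 1 + 1 := by
    have h3 : t % 3 = 0 ∨ t % 3 = 1 ∨ t % 3 = 2 := by omega
    have h4 : t ^ 2 % 3 = (t % 3) ^ 2 % 3 := Nat.pow_mod t 2 3
    constructor
    · intro h
      rcases h3 with h3 | h3 | h3 <;> rw [h3] at h4 <;> omega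
    · intro h
      rcases h3 with h3 | h3 | h3 <;> rw [h3] at h4 <;> omega
  rcases gcd_three (t ^ 2 + t + 1) with h1 | h1 <;> rcases gcd_three (t + 1 + 1) with h2 | h2
  · rw [h1, h2]
  · exfalso
    have h3 := key.2 (Nat.gcd_eq_left_iff_dvd.1 h2)
    rw [Nat.gcd_eq_left h3] at h1
    omega
  · exfalso
    have h3 := key.1 (Nat.gcd_eq_left_iff_dvd.1 h1)
    rw [Nat.gcd_eq_left h3] at h2
    omega
  · rw [h1, h2]

theorem FactU.lie (h : FactU p q G) {K : Subgroup G} [K.Normal] {S : Subgroup (G ⧸ K)} [S.Normal] (hS : IsSimpleGroup ↥S)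
    (hC : centralizer (S : Set (G ⧸ K)) = ⊥) (hc : Clause K S) {F : Type} [Field F] [Fintype F]
    (hF : Odd (Fintype.card F)) (E : ↥S ≃* Matrix.ProjectiveSpecialLinearGroup (Fin 2) F) {s : ℕ} (hs : s.Prime)
    (hsd : s ∣ mm q) (hd : s ∣ Nat.card ↥K * S.index) : IsLieTypeChar p ↥S := by
  obtain ⟨k, hk, D⟩ : ∃ k, q = 4 * k + 3 ∧ Dat4 p k G := by
    obtain ⟨a, ha⟩ := h.cand.ex
    refine dat4_of h.cand.hp h.cand.h5 ha h.cand.h4 h.cand.spec ?_ h.exp
    obtain ⟨g, hg⟩ := h.ex3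
    refine ⟨g, ?_⟩
    rw [hg]
    show (q ^ 2 - q + 1) / Nat.gcd 3 (q ^ 2 - q + 1) = (q ^ 2 - q + 1) / Nat.gcd 3 (q + 1)
    rw [gcd_eq h.q_pos]
  obtain ⟨r, hr, hrd⟩ := h.exists_six
  have f := h.cand.prime_facts hs hsd
  have hpb : ¬ p ∣ Nat.card ↥K * S.index := by
    intro hpb
    exact f.2.2.1 (h.clause hc hr hs hrd hsd (Or.inr (Or.inr rfl)) (Or.inl rfl) hd hpb)
  obtain ⟨g, hg⟩ := h.exp
  obtain ⟨y, hy⟩ := exists_section K S (g := g) (fun t ht htg => by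
    rw [hg] at htg
    rwa [(Nat.prime_dvd_prime_iff_eq ht h.cand.hp).1 htg])
  have hpc : p ∣ Nat.card (Matrix.ProjectiveSpecialLinearGroup (Fin 2) F) := by
    rw [← Nat.card_congr E.toEquiv, ← hg, ← hy]
    exact orderOf_dvd_natCard y
  have h4 : 4 ≤ Fintype.card F := by
    have h1 : 1 < Fintype.card F := Fintype.one_lt_card
    rcases Nat.lt_or_ge (Fintype.card F) 4 with h2 | h2
    · exfalso
      have h3 : Fintype.card F = 3 := by
        obtain ⟨j, hj⟩ := hF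
        omega
      have h5 := ClassicalGeometry.PSL2Basic.card_PSL2_gcd (F := F)
      rw [h3] at h5
      have h6 : Nat.card (Matrix.ProjectiveSpecialLinearGroup (Fin 2) F) = 12 := by
        norm_num at h5
        omega
      rw [h6] at hpc
      have h7 := Nat.le_of_dvd (by norm_num) hpc
      have h8 := h.cand.hp
      have h9 := h.cand.h5
      interval_cases p <;> revert hpc h8 <;> decide
    · exact h2
  obtain ⟨v, hv⟩ := CharP.exists F
  have hvp : Fact v.Prime := ⟨CharP.char_is_prime F v⟩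
  have hv2 : v ≠ 2 := by
    rintro rfl
    have h1 : ((Fintype.card F : ℕ) : F) = 0 := FiniteField.cast_card_eq_zero F
    rw [CharP.cast_eq_zero_iff F 2] at h1
    obtain ⟨j, hj⟩ := hF
    omega
  have hA : s ∣ A k := by
    have : mm q = A k := by
      have h1 := h.cand.two_mm
      have h2 : 2 * A k = q ^ 2 + 1 := by rw [hk]; unfold A; ring
      omega
    rwa [← this]
  have := D.char_eq hc hS hC hv2 h4 E hs f.1 hA hd
  subst this
  exact Or.inl ⟨F, inferInstance, inferInstance, hv, 2, le_rfl, fun _ => h4, ⟨E⟩⟩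

end Cfsg.Agent.H402.Rec
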