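import Cfsg.Agent.S0243
import Cfsg.Agent.S0280
import Cfsg.Agent.H403.LinTor

/-!
# `PSL_4(2 ^ k)`, `PSU_4(2 ^ k)` have even order
-/

set_option autoImplicit false

namespace Cfsg.Agent.H402.Rec

open Cfsg.Agent.H403

theorem exists_two {F : Type*} [Field F] [Fintype F] {e : Bool} {k : ℕ} {L : Type*} [Group L] [Finite L]
    (h : IsL L e 4 (2 ^ k) F) (hF : Fintype.card F = (2 ^ k) ^ (cond e 0 1 + 1)) (hk : 1 ≤ k) :
    ∃ x : L, orderOf x = 2 := by
  have h2 : 2 ∣ 2 ^ k := dvd_pow_self 2 (by omega)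
  have h1 : 1 ≤ 2 ^ k := Nat.one_le_two_pow
  suffices hd : 2 ∣ Nat.card L by
    have : Fact (Nat.Prime 2) := ⟨Nat.prime_two⟩
    exact exists_prime_orderOf_dvd_card' 2 hd
  cases e
  · obtain ⟨f⟩ : Nonempty (L ≃* Cfsg.PSU 4 F (2 ^ k)) := h
    rw [Nat.card_congr f.toEquiv]
    have h3 := S0280.result (F := F) (q := 2 ^ k) (by simpa using hF) 4 (by norm_num)
    have hodd : ¬ 2 ∣ 2 ^ k + 1 := by omega
    have h4 : 2 ∣ Nat.gcd 4 (2 ^ k + 1) * ((2 ^ k + 1) * Nat.card (Cfsg.PSU 4 F (2 ^ k))) := by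
      rw [h3]
      exact (h2.trans (dvd_pow_self _ (by norm_num))).mul_right _
    rcases (Nat.Prime.dvd_mul Nat.prime_two).1 h4 with h5 | h5
    · exact absurd (h5.trans (Nat.gcd_dvd_right _ _)) hodd
    · exact ((Nat.Prime.dvd_mul Nat.prime_two).1 h5).resolve_left hodd
  · obtain ⟨f⟩ : Nonempty (L ≃* Matrix.ProjectiveSpecialLinearGroup (Fin 4) F) := h
    rw [Nat.card_congr f.toEquiv]
    have h3 := S0243.result (F := F) (q := 2 ^ k) (by simpa using hF) 4 (by norm_num)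
    have hodd : ¬ 2 ∣ 2 ^ k - 1 := by omega
    have h4 : 2 ∣ Nat.gcd 4 (2 ^ k - 1) * ((2 ^ k - 1) * Nat.card (Matrix.ProjectiveSpecialLinearGroup (Fin 4) F)) := by
      rw [h3]
      refine Dvd.dvd.trans ?_ (Finset.dvd_prod_of_mem _ (Finset.mem_univ (1 : Fin 4)))
      exact Nat.dvd_sub (h2.trans (dvd_pow_self _ (by norm_num))) (h2.trans (dvd_pow_self _ (by norm_num)))
    rcases (Nat.Prime.dvd_mul Nat.prime_two).1 h4 with h5 | h5
    · exact absurd (h5.trans (Nat.gcd_dvd_right _ _)) hodd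
    · exact ((Nat.Prime.dvd_mul Nat.prime_two).1 h5).resolve_left hodd

end Cfsg.Agent.H402.Rec
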