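import Cfsg.Agent.H402.Rec.Section
import Cfsg.Agent.H402.Rec.Two
import Cfsg.Agent.CpQuot.Congr
import Cfsg.Agent.H321.SpecEven.Ident
import Cfsg.Agent.S3585
import Cfsg.Agent.S3586
import Cfsg.Agent.S3587

/-!
# Identification of the simple section: `S ≃* L` (`L = PSL_4(q)`, `PSU_4(q)`)
-/

set_option autoImplicit false

namespace Cfsg.Agent.H402.Rec

open Subgroup Cfsg Cfsg.Agent.H403

theorem sporadic_congr {X Y : Type*} [Group X] [Group Y] (e : X ≃* Y) (h : IsSporadicGroup X) : IsSporadicGroup Y := by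
  revert h
  simp only [IsSporadicGroup, Spor.IsoM11, Spor.IsoM12,
    Spor.IsoM22, Spor.IsoM23, Spor.IsoM24, Spor.IsoJ1, Spor.IsoJ2, Spor.IsoJ3, Spor.IsoJ4, Spor.IsoCo1, Spor.IsoCo2,
    Spor.IsoCo3, Spor.IsoMcL, Spor.IsoHS, Spor.IsoSuz, Spor.IsoHe, Spor.IsoRu, Spor.IsoON, Spor.IsoLy, Spor.IsoFi22,
    Spor.IsoFi23, Spor.IsoFi24', Spor.IsoHN, Spor.IsoTh, Spor.IsoB, Spor.IsoM, Cfsg.Agent.CpQuot.Congr.iso_iff e]
  exact id

theorem tits_congr {X Y : Type*} [Group X] [Group Y] (e : X ≃* Y) (h : Lie.IsoTits X) : Lie.IsoTits Y := by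
  revert h
  simp only [Lie.IsoTits, Cfsg.Agent.CpQuot.Congr.iso_iff e]
  exact id

variable {G : Type*} [Group G] [Finite G]

theorem Sect.iso {K : Subgroup G} [K.Normal] {S : Subgroup (G ⧸ K)} [S.Normal] (hs : Sect G K S) {F : Type*} [Field F]
    [Fintype F] (p : ℕ) [Fact p.Prime] [CharP F p] {e : Bool} {q : ℕ} (hq : q ≠ 2) {L : Type*} [Group L] [Finite L]
    (hL : IsL L e 4 q F) (hF : Fintype.card F = q ^ (cond e 0 1 + 1))
    (h : Set.range (orderOf : G → ℕ) = Set.range (orderOf : L → ℕ))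
    (hrow : IsAlternating ↥S ∨ IsSporadicGroup ↥S ∨ Lie.IsoTits ↥S ∨ IsLieTypeChar p ↥S) : Nonempty (↥S ≃* L) := by
  obtain ⟨H, hH, N, hN, h1, h2, ⟨g⟩⟩ := hs.factor
  have hL1 : (¬ (4 = 4 ∧ Fintype.card F = 2) ∧ Nonempty (L ≃* Matrix.ProjectiveSpecialLinearGroup (Fin 4) F)) ∨
      (∃ q : ℕ, ¬ (4 = 4 ∧ q = 2) ∧ Fintype.card F = q ^ 2 ∧ Nonempty (L ≃* Cfsg.PSU 4 F q)) := by
    cases e
    · exact Or.inr ⟨q, fun h => hq h.2, by simpa using hF, hL⟩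
    · refine Or.inl ⟨fun h => hq ?_, hL⟩
      have h3 : Fintype.card F = q := by simpa using hF
      rw [← h3]; exact h.2
  have hL2 : Nonempty (L ≃* Matrix.ProjectiveSpecialLinearGroup (Fin 4) F) ∨
      (∃ q : ℕ, ¬ (4 = 5 ∧ q = 2) ∧ Fintype.card F = q ^ 2 ∧ Nonempty (L ≃* Cfsg.PSU 4 F q)) := by
    rcases hL1 with ⟨-, h3⟩ | ⟨q, -, h3, h4⟩
    · exact Or.inl h3
    · exact Or.inr ⟨q, fun h => by omega, h3, h4⟩
  have hL3 : Nonempty (L ≃* Matrix.ProjectiveSpecialLinearGroup (Fin 4) F) ∨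
      (∃ q : ℕ, ¬ (4 = 4 ∧ q = 2) ∧ Fintype.card F = q ^ 2 ∧ Nonempty (L ≃* Cfsg.PSU 4 F q)) := by
    rcases hL1 with ⟨-, h3⟩ | h3
    · exact Or.inl h3
    · exact Or.inr h3
  rcases hrow with h3 | h3 | h3 | h3
  · exfalso
    obtain ⟨m, -, ⟨f⟩⟩ := h3
    exact Cfsg.Agent.S3585.result le_rfl hL1 h H hH N h1 h2 m ⟨g.trans f⟩
  · exfalso
    exact (Cfsg.Agent.S3586.result le_rfl hL2 h H hH N h1 h2).1
      (Cfsg.Agent.H321.SpecEven.isSporadic_of h1 (sporadic_congr g.symm h3))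
  · exfalso
    exact (Cfsg.Agent.S3586.result le_rfl hL2 h H hH N h1 h2).2 (tits_congr g.symm h3)
  · obtain ⟨f⟩ := Cfsg.Agent.S3587.result p le_rfl hL3 h H hH N h1 h2
      ((Cfsg.Agent.CpQuot.Congr.isLieTypeChar_iff g.symm p).1 h3)
    exact ⟨g.symm.trans f⟩

/-- no alternating factors -/
theorem no_alt {F : Type*} [Field F] [Fintype F] {e : Bool} {q : ℕ} (hq : q ≠ 2) {L : Type*} [Group L] [Finite L]
    (hL : IsL L e 4 q F) (hF : Fintype.card F = q ^ (cond e 0 1 + 1))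
    (h : Set.range (orderOf : G → ℕ) = Set.range (orderOf : L → ℕ)) :
    ∀ (H : Subgroup G), H.IsSubnormal → ∀ (N : Subgroup ↥H) [N.Normal], IsSimpleGroup (↥H ⧸ N) →
      ¬ IsMulCommutative (↥H ⧸ N) → ∀ m : ℕ, ¬ Nonempty ((↥H ⧸ N) ≃* alternatingGroup (Fin m)) := by
  have hL1 : (¬ (4 = 4 ∧ Fintype.card F = 2) ∧ Nonempty (L ≃* Matrix.ProjectiveSpecialLinearGroup (Fin 4) F)) ∨
      (∃ q : ℕ, ¬ (4 = 4 ∧ q = 2) ∧ Fintype.card F = q ^ 2 ∧ Nonempty (L ≃* Cfsg.PSU 4 F q)) := by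
    cases e
    · exact Or.inr ⟨q, fun h => hq h.2, by simpa using hF, hL⟩
    · refine Or.inl ⟨fun h => hq ?_, hL⟩
      have h3 : Fintype.card F = q := by simpa using hF
      rw [← h3]; exact h.2
  exact Cfsg.Agent.S3585.result le_rfl hL1 h

end Cfsg.Agent.H402.Rec
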