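import Cfsg.Agent.H402.Rec.Final
import Cfsg.Agent.H402.Rec.Spec
import Cfsg.Agent.H402.Rec.RowsTwo
import Cfsg.Agent.H402.Rec.RowsThree
import Cfsg.Agent.H402.Rec.FactU
import Cfsg.Agent.H363.U4.CoverNe
import Cfsg.Agent.H344.RecSzF
import Cfsg.Agent.H542.RecTF4
import Cfsg.Agent.H912.KnownSplit
import Cfsg.Agent.S0000

/-!
# Recognition of `PSU_4(q)` by the set of element orders: assembly from the own characteristic covers and outer parts
-/

set_option autoImplicit false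

namespace Cfsg.Agent.H402.Rec

open Subgroup Cfsg Cfsg.Agent.H403 Cfsg.Agent.H945.UF

universe u v

variable {G : Type u} [Group G] [Finite G] {F : Type v} [Field F] [Fintype F] {q : ℕ}

/-- covers in the own characteristic `p` -/
def OwnCov (F : Type v) [Field F] (q p : ℕ) : Prop :=
  ∀ (X : Type u) [Group X] [Finite X] (V : Subgroup X) [V.Normal] [IsSimpleGroup (X ⧸ V)], IsMulCommutative V →
    (∀ v ∈ V, v ^ p = 1) → V ≠ ⊥ → (X ⧸ V ≃* PSU 4 F q) → (∀ x : X, ∃ y : PSU 4 F q, orderOf y = orderOf x) → False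

/-- almost simple groups -/
def Outer (F : Type v) [Field F] (q : ℕ) : Prop :=
  ∀ (X : Type u) [Group X] [Finite X] (S : Subgroup X) [S.Normal], (S ≃* PSU 4 F q) → centralizer (S : Set X) = ⊥ →
    (∀ x : X, ∃ y : PSU 4 F q, orderOf y = orderOf x) → S = ⊤

/-- The last step: covers and almost simple groups. -/
theorem finish_uni {p : ℕ} (hp : p.Prime) [CharP F p] (hF : Fintype.card F = q ^ 2) (hq : q ≠ 2)
    (hcov : OwnCov.{u} F q p) (hout : Outer.{u} F q)
    (h : Set.range (orderOf : G → ℕ) = Set.range (orderOf : PSU 4 F q → ℕ)) {K : Subgroup G} [K.Normal]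
    {S : Subgroup (G ⧸ K)} [S.Normal] (hs : Sect G K S) (e : ↥S ≃* PSU 4 F q) : Nonempty (G ≃* PSU 4 F q) := by
  refine Cfsg.Agent.H414.SpecFrame.finish (G := G) (L := PSU 4 F q) ?_ hs.solv hs.cent e ?_ ?_
  · intro x
    have : orderOf x ∈ Set.range (orderOf : PSU 4 F q → ℕ) := by
      rw [← h]
      exact ⟨x, rfl⟩
    exact this
  · intro X _ _ V _ w hw hVc hVp hV1 f hω
    have hsimple := hs.simple
    have h1 : IsSimpleGroup (X ⧸ V) := ((f.trans e.symm).isSimpleGroup_congr).2 hsimple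
    by_cases hwp : w = p
    · subst hwp
      exact hcov X V hVc hVp hV1 f hω
    · exact Cfsg.Agent.H363.U4.cover_ne hF hq hp V hw hwp hVc hVp hV1 f hω
  · intro X _ _ T _ f hC hω
    exact hout X T f hC hω

/-- the section of the right type -/
def Sec (G : Type u) [Group G] (p : ℕ) : Prop :=
  ∃ (K : Subgroup G) (_ : K.Normal) (S : Subgroup (G ⧸ K)) (_ : S.Normal), Sect G K S ∧
      (IsAlternating ↥S ∨ IsSporadicGroup ↥S ∨ Lie.IsoTits ↥S ∨ IsLieTypeChar p ↥S)

theorem sec_two {k : ℕ} (hk : 2 ≤ k) (hF : Fintype.card F = (2 ^ k) ^ 2)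
    (h : Set.range (orderOf : G → ℕ) = Set.range (orderOf : PSU 4 F (2 ^ k) → ℕ)) : Sec G 2 := by
  have hL : IsL (PSU 4 F (2 ^ k)) false 4 (2 ^ k) F := ⟨MulEquiv.refl _⟩
  have hcard' : Fintype.card F = (2 ^ k) ^ (cond false 0 1 + 1) := by rw [hF]; simp
  have h24 : 2 ^ k ≠ 2 := by
    intro h2
    have : 2 ^ 2 ≤ 2 ^ k := Nat.pow_le_pow_right (by norm_num) hk
    omega
  have hf := (fact2 hL hcard' hk).of_range h
  have h22 : ∃ x : G, orderOf x = 2 := by
    have h3 : (2 : ℕ) ∈ Set.range (orderOf : PSU 4 F (2 ^ k) → ℕ) := exists_two hL hcard' (by omega)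
    rw [← h] at h3
    exact h3
  have hna := no_alt (q := 2 ^ k) h24 hL hcard' h
  obtain ⟨K, hK, S, hSn, hs, hc⟩ := hf.exists_sect h22 hna
  refine ⟨K, hK, S, hSn, hs, ?_⟩
  have hsimple := hs.simple
  rcases Cand2.main hc Cfsg.Agent.S0000.result hs.nonab with h3 | h3 | h3
  · exact Or.inl h3
  · exact Or.inr (Or.inl h3)
  · exact Or.inr (Or.inr (Or.inr h3))

theorem sec_three {k : ℕ} (hk : 2 ≤ k) (hF : Fintype.card F = (3 ^ k) ^ 2)
    (h : Set.range (orderOf : G → ℕ) = Set.range (orderOf : PSU 4 F (3 ^ k) → ℕ)) : Sec G 3 := by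
  have hL : IsL (PSU 4 F (3 ^ k)) false 4 (3 ^ k) F := ⟨MulEquiv.refl _⟩
  have hcard' : Fintype.card F = (3 ^ k) ^ (cond false 0 1 + 1) := by rw [hF]; simp
  have hf := (fact3 hL hcard' (by omega) (fun _ => hk)).of_range h
  obtain ⟨K, hK, S, hSn, hs, hc⟩ := hf.exists_sect
  refine ⟨K, hK, S, hSn, hs, ?_⟩
  have hsimple := hs.simple
  rcases Cand3.main_false hc Cfsg.Agent.S0000.result hs.nonab with h3 | h3 | h3 | h3 | h3 | h3
  · exact Or.inl h3
  · exact Or.inr (Or.inl h3)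
  · exact Or.inr (Or.inr (Or.inl h3))
  · exact Or.inr (Or.inr (Or.inr h3))
  · exact (Cfsg.Agent.H344.Rec.sz_false hc h3).elim
  · exact (Cfsg.Agent.H542.RecTF4.f42_false hc h3).elim

end Cfsg.Agent.H402.Rec
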