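import Cfsg.Agent.H402.Rec.Fact
import Cfsg.Agent.H431.Lucido
import Cfsg.Agent.H403.Reduce
import Cfsg.Agent.H414.Vasiliev
import Cfsg.Agent.H414.SpecFrame

/-!
# The simple section of a group isospectral to `PSL_4(q)`, `PSU_4(q)` in characteristics 2 and 3

`Sect G K S` : `K` is a solvable normal subgroup of `G` and `S` a nonabelian simple normal subgroup of `G / K` with
trivial centralizer.
-/

set_option autoImplicit false

namespace Cfsg.Agent.H402.Rec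

open Subgroup Cfsg.Agent.H403

/-- the section -/
structure Sect (G : Type*) [Group G] (K : Subgroup G) [K.Normal] (S : Subgroup (G ⧸ K)) : Prop where
  solv : Group.IsSolvable ↥K
  simple : IsSimpleGroup ↥S
  nonab : ¬ IsMulCommutative ↥S
  cent : centralizer (S : Set (G ⧸ K)) = ⊥

variable {G : Type*} [Group G] [Finite G]

/-- `S` is a composition factor of `G`. -/
theorem Sect.factor {K : Subgroup G} [K.Normal] {S : Subgroup (G ⧸ K)} [S.Normal] (h : Sect G K S) :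
    ∃ (H : Subgroup G) (_ : H.IsSubnormal) (N : Subgroup ↥H) (_ : N.Normal) (_ : IsSimpleGroup (↥H ⧸ N))
      (_ : ¬ IsMulCommutative (↥H ⧸ N)), Nonempty ((↥H ⧸ N) ≃* ↥S) := by
  obtain ⟨X, hX, N, hN, ⟨f⟩⟩ := Cfsg.Agent.H414.SpecFrame.exists_factor S
  have hsimple := h.simple
  have h1 : IsSimpleGroup (X ⧸ N) := (f.isSimpleGroup_congr).2 hsimple
  refine ⟨X, hX.isSubnormal, N, hN, h1, ?_, ⟨f⟩⟩
  intro hc
  apply h.nonab
  have hc' := isMulCommutative_iff.1 hc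
  refine isMulCommutative_iff.2 fun x y => ?_
  apply f.symm.injective
  rw [map_mul, map_mul, hc']

/-- The section, with the clauses of Vasil'ev's theorem. -/
theorem exists_sect (hns : ¬ Group.IsSolvable G)
    (h2 : ∃ p : ℕ, p.Prime ∧ p ≠ 2 ∧ p ∣ Nat.card G ∧ ¬ ∃ x : G, orderOf x = 2 * p) :
    ∃ (K : Subgroup G) (_ : K.Normal) (S : Subgroup (G ⧸ K)) (_ : S.Normal), Sect G K S ∧ Clause K S ∧
      (Cfsg.Agent.H414.Rad.AltL2 ↥S ∨ ∀ p : ℕ, p.Prime → p ≠ 2 → p ∣ Nat.card G → (¬ ∃ x : G, orderOf x = 2 * p) →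
        ¬ p ∣ Nat.card ↥K ∧ ¬ p ∣ S.index) := by
  obtain ⟨K, hKn, hKs, hKm⟩ := exists_radical G
  obtain ⟨S, hSc, hSn, hScent, hcl, hvas⟩ := H414.Vasiliev.main hns h2 K hKs hKm
  refine ⟨K, hKn, S, hSn, ⟨hKs, hSc.simple, ?_, hScent⟩, hcl, hvas⟩
  intro hc
  obtain ⟨a, b, hab⟩ := hSc.noncomm
  exact hab (hc.is_comm.comm a b)

variable {e : Bool} {k : ℕ}

theorem dvd_card_of_exists {n : ℕ} (h : ∃ x : G, orderOf x = n) : n ∣ Nat.card G := by
  obtain ⟨x, rfl⟩ := h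
  exact orderOf_dvd_natCard x

theorem Fact3.not_solvable (h : Fact3 e k G) : ¬ Group.IsSolvable G := by
  intro hs
  have h' := h.toCand
  obtain ⟨r, hr, hrd⟩ := Nat.exists_prime_and_dvd h'.one_lt_R3.ne'
  obtain ⟨s, hs', hsd⟩ := Nat.exists_prime_and_dvd h'.one_lt_R4.ne'
  have hr5 := h'.five_le hr (Or.inl hrd)
  have hs5 := h'.five_le hs' (Or.inr hsd)
  have hn : ¬ s ∣ N3 e (3 ^ k) := by
    intro h5
    have h6 := h5.trans (N3_dvd e h'.one_le)
    obtain ⟨-, h7, h8⟩ := of_dvd_R4 h'.one_le h'.odd hs' hsd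
    cases e
    · exact h8 h6
    · exact h7 h6
  have hne : r ≠ s := by
    rintro rfl
    exact hn (hrd.trans (R3_dvd_N3 e h'.one_le h'.odd))
  rcases H431.Lucido.lucido hs Nat.prime_three hr hs' (by omega) (by omega) hne
    ((show 3 ∣ 9 by decide).trans (dvd_card_of_exists h.ex9)) (hrd.trans (dvd_card_of_exists h.ex3))
    (hsd.trans (dvd_card_of_exists h.ex4)) with ⟨x, hx⟩ | ⟨x, hx⟩ | ⟨x, hx⟩
  · have h1 := h'.absA hr hrd (x := x) (by rw [hx]; exact dvd_mul_left _ _)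
    exact h'.three_N3 (((dvd_mul_right 3 r).trans (dvd_of_eq hx.symm)).trans h1)
  · have h1 := h'.absB hs' hsd (x := x) (by rw [hx]; exact dvd_mul_left _ _)
    exact h'.three_N4 (((dvd_mul_right 3 s).trans (dvd_of_eq hx.symm)).trans h1)
  · have h5 := h'.absA hr hrd (x := x) (by rw [hx]; exact dvd_mul_right _ _)
    exact hn (((dvd_mul_left s r).trans (dvd_of_eq hx.symm)).trans h5)

theorem Fact2.not_solvable (h : Fact2 e k G) (h2 : ∃ x : G, orderOf x = 2) : ¬ Group.IsSolvable G := by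
  intro hs
  have h' := h.toCand
  obtain ⟨r, s, hr, hs', hrd, hsd⟩ := h'.exists_primes
  have hr2 := (of_dvd_Q3 h'.one_le hr hrd).2.2.2.1
  have hs2 := (of_dvd_Q4 (e := e) h'.one_le h'.even hs' hsd).2.2.2.1
  have hne : r ≠ s := by
    rintro rfl
    obtain ⟨x, hx⟩ := h.ex3
    have hrx : r ∣ orderOf x := by rw [hx]; exact hrd
    exact h'.not_both hr hs' hrd hsd hrx hrx
  rcases H431.Lucido.lucido hs Nat.prime_two hr hs' hr2.symm hs2.symm hne (dvd_card_of_exists h2)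
    (hrd.trans (dvd_card_of_exists h.ex3)) (hsd.trans (dvd_card_of_exists h.ex4)) with ⟨x, hx⟩ | ⟨x, hx⟩ | ⟨x, hx⟩
  · have h1 := h'.not_even3 hr hrd (x := x) (by rw [hx]; exact dvd_mul_left _ _)
    rw [hx] at h1
    omega
  · have h1 := h'.not_even4 hs' hsd (x := x) (by rw [hx]; exact dvd_mul_left _ _)
    rw [hx] at h1
    omega
  · exact h'.not_both hr hs' hrd hsd (x := x) (by rw [hx]; exact dvd_mul_right _ _) (by rw [hx]; exact dvd_mul_left _ _)

/-- **The section for `q = 3 ^ k`.** -/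
theorem Fact3.exists_sect (h : Fact3 e k G) :
    ∃ (K : Subgroup G) (_ : K.Normal) (S : Subgroup (G ⧸ K)) (_ : S.Normal), Sect G K S ∧ Cand3 e k ↥S := by
  obtain ⟨K, hK, S, hS, h1, h2, -⟩ := Rec.exists_sect h.not_solvable h.exists_far
  exact ⟨K, hK, S, hS, h1, h.cand h2⟩

/-- **The section for `q = 2 ^ k`.** -/
theorem Fact2.exists_sect (h : Fact2 e k G) (h2 : ∃ x : G, orderOf x = 2)
    (halt : ∀ (H : Subgroup G), H.IsSubnormal → ∀ (N : Subgroup ↥H) [N.Normal], IsSimpleGroup (↥H ⧸ N) →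
      ¬ IsMulCommutative (↥H ⧸ N) → ∀ m : ℕ, ¬ Nonempty ((↥H ⧸ N) ≃* alternatingGroup (Fin m))) :
    ∃ (K : Subgroup G) (_ : K.Normal) (S : Subgroup (G ⧸ K)) (_ : S.Normal), Sect G K S ∧ Cand2 e k ↥S := by
  obtain ⟨K, hK, S, hS, h1, h2, h3⟩ := Rec.exists_sect (h.not_solvable h2) h.exists_far
  refine ⟨K, hK, S, hS, h1, h.cand h2 ?_⟩
  rcases h3 with h3 | h3
  · rcases h3 with ⟨⟨f⟩⟩ | h3
    · exfalso
      obtain ⟨H, hH, N, hN, hs, hc, ⟨g⟩⟩ := h1.factor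
      exact halt H hH N hs hc 7 ⟨g.trans f⟩
    · exact Or.inl h3
  · exact Or.inr h3

end Cfsg.Agent.H402.Rec
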