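import Cfsg.Agent.H402.Rec.Spec

/-!
# The spectrum of `PSL_4(q)` and `PSU_4(q)` in characteristic `p ≥ 5`
-/

set_option autoImplicit false
set_option linter.unusedSectionVars false

namespace Cfsg.Agent.H402.Rec

open Polynomial Function Cfsg.Agent.H403 NumTop Cfsg.Agent.H363.L4 Cfsg.Agent.H402.Uni

section Mult

variable {E : Type*} [Field E]

theorem pair_cases {b c b' c' : E} (h : ({b', c'} : Multiset E) = {b, c}) : (b' = b ∧ c' = c) ∨ (b' = c ∧ c' = b) := by
  have h1 : b' ∈ ({b, c} : Multiset E) := by rw [← h]; simp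
  have hcons : ∀ u v : E, ({u, v} : Multiset E) = u ::ₘ {v} := fun u v => rfl
  have h2 : b' = b ∨ b' = c := by simpa using h1
  rcases h2 with rfl | rfl
  · left
    rw [hcons, hcons] at h
    have h3 := (Multiset.cons_inj_right _).1 h
    exact ⟨rfl, Multiset.singleton_inj.1 h3⟩
  · right
    rw [Multiset.pair_comm b b', hcons, hcons] at h
    have h3 := (Multiset.cons_inj_right _).1 h
    exact ⟨rfl, Multiset.singleton_inj.1 h3⟩

/-- a repeated fixed eigenvalue -/
theorem struct_fix [DecidableEq E] {R : Multiset E} {x : ℤ} (hR : Cl x R) (hc : Multiset.card R = 4) {y : E}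
    (hy : 2 ≤ R.count y) (hyx : y ^ x = y) :
    ∃ b c : E, R = Multiset.replicate 2 y + {b, c} ∧ ((b ^ x = b ∧ c ^ x = c) ∨ (b ^ x = c ∧ c ^ x = b)) := by
  have h1 : Multiset.replicate 2 y ≤ R := Multiset.le_count_iff_replicate_le.1 hy
  obtain ⟨T, hT⟩ := Multiset.le_iff_exists_add.1 h1
  have h2 : Multiset.card T = 2 := by
    have := congrArg Multiset.card hT
    rw [Multiset.card_add, Multiset.card_replicate, hc] at this
    omega
  obtain ⟨b, c, rfl⟩ := Multiset.card_eq_two.1 h2
  refine ⟨b, c, hT, ?_⟩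
  have h3 := hR.map
  rw [hT, Multiset.map_add, Multiset.map_replicate, hyx] at h3
  have h4 := add_left_cancel h3
  have h5 : ({b ^ x, c ^ x} : Multiset E) = {b, c} := by simpa using h4
  exact pair_cases h5

/-- a repeated non-fixed eigenvalue -/
theorem struct_move [DecidableEq E] {R : Multiset E} {x : ℤ} (hR : Cl x R) (hc : Multiset.card R = 4) {y : E}
    (hy : 2 ≤ R.count y) (hyx : y ^ x ≠ y) {w : E} (hw : w ∈ R) : w = y ∨ w = y ^ x := by
  have h1 : R.count (y ^ x) = R.count y := by
    conv_lhs => rw [← hR.map]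
    exact Multiset.count_map_eq_count' (fun z : E => z ^ x) R hR.inj y
  have h2 : Multiset.replicate 2 y + Multiset.replicate 2 (y ^ x) ≤ R := by
    rw [Multiset.le_iff_count]
    intro z
    rw [Multiset.count_add, Multiset.count_replicate, Multiset.count_replicate]
    by_cases hz : y = z
    · subst hz
      rw [if_pos rfl, if_neg hyx]
      omega
    · rw [if_neg hz]
      by_cases hz' : y ^ x = z
      · subst hz'
        rw [if_pos rfl, h1]
        omega
      · rw [if_neg hz']
        omega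
  have h3 : Multiset.replicate 2 y + Multiset.replicate 2 (y ^ x) = R :=
    Multiset.eq_of_le_of_card_le h2 (by rw [hc, Multiset.card_add, Multiset.card_replicate, Multiset.card_replicate])
  rw [← h3, Multiset.mem_add] at hw
  rcases hw with hw | hw
  · exact Or.inl (Multiset.eq_of_mem_replicate hw)
  · exact Or.inr (Multiset.eq_of_mem_replicate hw)

end Mult

section

variable {F : Type*} [Field F] [Fintype F] {E : Type*} [Field E] [IsAlgClosed E] [Algebra F E]
variable {e : Bool} {n q : ℕ} {L : Type*} [Group L]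

/-- **The spectrum in characteristic `p ≥ 5`.** -/
theorem spec_p {p : ℕ} (hp : p.Prime) (hp5 : 5 ≤ p) [CharP F p] (hL : Lin E L e 4 q F)
    (hF : Fintype.card F = q ^ (cond e 0 1 + 1)) (g : L) :
    orderOf g * Nat.gcd 4 (M1 e q) ∣ M3 e q ∨ orderOf g * Nat.gcd 4 (M1 e q) ∣ M4 e q ∨ orderOf g ∣ q ^ 2 - 1 ∨
      orderOf g * Nat.gcd 4 (M1 e q) ∣ p * (q ^ 2 - 1) ∨ orderOf g ∣ p * M1 e q := by
  classical
  have hq : 2 ≤ q := two_le_of_card hF
  have hq2 : 0 < q ^ 2 - 1 := by
    have : 2 ^ 2 ≤ q ^ 2 := Nat.pow_le_pow_left hq 2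
    omega
  rcases spec_gen hL hF g with h | h | ⟨M, hdet, hM, hMk, hy⟩
  · exact Or.inl h
  · exact Or.inr (Or.inl h)
  right; right
  have hcard : Multiset.card (evs E M) = 4 := by rw [card_evs, Fintype.card_fin]
  by_cases hc : ∀ y ∈ evs E M, (evs E M).count y ≤ 1
  · left
    apply orderOf_dvd_of_pow_eq_one
    rw [hMk]
    refine ⟨1 ^ p ^ 0, ?_⟩
    have h1 := pow_of_count (E := E) (M := M) hp (k := q ^ 2 - 1) (a := 0) (c := 1) hq2
      (fun y h => by rw [hy y h, map_one]) (fun y h => by simpa using hc y h)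
    rw [← h1]
    congr 1
    simp
  right
  push Not at hc
  obtain ⟨y, hyM, hy2⟩ := hc
  have hcount : ∀ w ∈ evs E M, (evs E M).count w ≤ p ^ 1 := by
    intro w _
    have := four_spec_card (E := E) M w
    rw [pow_one]
    omega
  set x := xv e q with hx
  have hxsq : ((q ^ 2 - 1 : ℕ) : ℤ) = x ^ 2 - 1 := by
    rw [Nat.cast_sub (Nat.one_le_pow _ _ (by omega)), hx]
    unfold xv
    split_ifs <;> push_cast <;> ring
  have hxx : ∀ w ∈ evs E M, w ^ (x ^ 2 - 1) = 1 := by
    intro w hw
    rw [← hxsq, zpow_natCast, hy w hw]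
  have hAA : 0 < M1 e q := by
    rw [← AA_one]; exact AA_pos hq le_rfl
  set d := Nat.gcd 4 (M1 e q) with hd
  have hd0 : 0 < d := Nat.gcd_pos_of_pos_left _ (by norm_num)
  obtain ⟨s, hs⟩ : d ∣ 4 := Nat.gcd_dvd_left _ _
  obtain ⟨t, ht⟩ : (d : ℤ) ∣ x - 1 := by
    have h1 : d ∣ AA e 1 q := by rw [AA_one]; exact Nat.gcd_dvd_right _ _
    rw [← AA_natAbs (by omega : 1 ≤ q), pow_one] at h1
    exact Int.natCast_dvd.2 h1
  obtain ⟨N, hN⟩ : d ∣ q ^ 2 - 1 := by
    have : ((d : ℕ) : ℤ) ∣ ((q ^ 2 - 1 : ℕ) : ℤ) := by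
      rw [hxsq]
      exact ⟨t * (x + 1), by rw [← mul_assoc, ← ht]; ring⟩
    exact_mod_cast this
  have hN0 : 0 < N := by
    rcases Nat.eq_zero_or_pos N with h | h
    · rw [h, mul_zero] at hN; omega
    · exact h
  have hNt : (N : ℤ) = t * (x + 1) := by
    have h1 : (d : ℤ) * N = d * (t * (x + 1)) := by
      have h2 : ((d * N : ℕ) : ℤ) = x ^ 2 - 1 := by rw [← hN, hxsq]
      push_cast at h2
      rw [h2, ← mul_assoc, ← ht]; ring
    exact mul_left_cancel₀ (by exact_mod_cast hd0.ne') h1
  -- `w ^ ((x - 1) N) = 1`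
  have hfixN : ∀ w ∈ evs E M, (w ^ x) ^ N = w ^ N := by
    intro w hw
    have hw0 := hM.ne_zero hw
    have h1 : w ^ ((x - 1) * N) = 1 := by
      have h2 : (x - 1) * (N : ℤ) = (x ^ 2 - 1) * t := by
        rw [hNt]; ring
      rw [h2, zpow_mul, hxx w hw, one_zpow]
    have h3 : (w ^ x) ^ N = w ^ ((x - 1) * N) * w ^ (N : ℤ) := by
      rw [← zpow_add₀ hw0, ← zpow_natCast, ← zpow_mul]
      congr 1
      ring
    rw [h3, h1, one_mul, zpow_natCast]
  -- it is enough that all eigenvalues have the same `N`-th power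
  have key : (∀ w ∈ evs E M, w ^ N = y ^ N) → orderOf g * d ∣ p * (q ^ 2 - 1) := by
    intro hall
    have hy0 : y ^ N ≠ 0 := pow_ne_zero _ (hM.ne_zero hyM)
    have hyx : (y ^ N) ^ x = y ^ N := by
      rw [← zpow_natCast, ← zpow_mul, mul_comm, zpow_mul, zpow_natCast, zpow_natCast]
      exact hfixN y hyM
    obtain ⟨c, hc⟩ := mem_range_of_fix hF hy0 hyx
    have h1 := pow_of_count (E := E) (M := M) hp (k := N) (a := 1) (c := c) hN0
      (fun w h => by rw [hall w h, hc]) hcount
    have h2 : orderOf g ∣ N * p ^ 1 := by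
      apply orderOf_dvd_of_pow_eq_one
      rw [hMk]
      exact ⟨_, h1⟩
    rw [pow_one] at h2
    have h3 : p * (q ^ 2 - 1) = N * p * d := by rw [hN]; ring
    rw [h3]
    exact Nat.mul_dvd_mul_right h2 _
  by_cases hyx : y ^ x = y
  · obtain ⟨b, c, hR, hbc⟩ := struct_fix hM hcard hy2 hyx
    have hmem : ∀ w ∈ evs E M, w = y ∨ w = b ∨ w = c := by
      intro w hw
      rw [hR, Multiset.mem_add] at hw
      rcases hw with hw | hw
      · exact Or.inl (Multiset.eq_of_mem_replicate hw)
      · right; simpa using hw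
    have hbM : b ∈ evs E M := by rw [hR]; simp
    have hcM : c ∈ evs E M := by rw [hR]; simp
    rcases hbc with ⟨hb, hc⟩ | ⟨hb, hc⟩
    · right
      have hfix : ∀ w ∈ evs E M, w ^ M1 e q = 1 := by
        intro w hw
        have h0 := hM.ne_zero hw
        have h1 : w ^ x = w := by
          rcases hmem w hw with rfl | rfl | rfl
          · exact hyx
          · exact hb
          · exact hc
        have h2 : w ^ (x - 1) = 1 := by rw [zpow_sub₀ h0, h1, zpow_one, div_self h0]
        rw [← AA_one]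
        rcases AA_eq (e := e) (i := 1) (by omega : 1 ≤ q) with h | h
        · rw [← zpow_natCast, h, pow_one]; exact h2
        · rw [← zpow_natCast, h, pow_one, zpow_neg]
          rw [show w ^ (xv e q - 1) = 1 from h2, inv_one]
      apply orderOf_dvd_of_pow_eq_one
      rw [hMk]
      have h1 := pow_of_count (E := E) (M := M) hp (k := M1 e q) (a := 1) (c := 1) hAA
        (fun y h => by rw [hfix y h, map_one]) hcount
      refine ⟨1 ^ p ^ 1, ?_⟩
      rw [← h1]
      congr 1
      ring
    · left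
      apply key
      have hy0 := hM.ne_zero hyM
      have hb0 := hM.ne_zero hbM
      have hprod : y * y * (b * c) = 1 := by
        have h1 : (evs E M).prod = 1 := by rw [prod_evs, hdet, map_one]
        rw [hR, Multiset.prod_add, Multiset.prod_replicate] at h1
        have h2 : (({b, c} : Multiset E)).prod = b * c := by simp
        rw [h2] at h1
        rw [← pow_two]; exact h1
      have hy1 : y ^ (x - 1) = 1 := by rw [zpow_sub₀ hy0, hyx, zpow_one, div_self hy0]
      have hbN : b ^ N = y ^ N := by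
        have h1 : (b / y) ^ (x + 1) = y ^ (-4 : ℤ) := by
          have h2 : b ^ (x + 1) = y ^ (-2 : ℤ) := by
            rw [zpow_add₀ hb0, hb, zpow_one]
            have h3 : y ^ (-2 : ℤ) = (y * y)⁻¹ := by
              rw [zpow_neg, zpow_two]
            rw [h3]
            apply eq_inv_of_mul_eq_one_left
            rw [← hprod]; ring
          have h4 : y ^ (x + 1) = y ^ (2 : ℤ) := by
            rw [show x + 1 = (x - 1) + 2 by ring, zpow_add₀ hy0, hy1, one_mul]
          rw [div_zpow, h2, h4, ← zpow_sub₀ hy0]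
          congr 1
        have h5 : (b / y) ^ (N : ℤ) = 1 := by
          rw [hNt, mul_comm, zpow_mul, h1, ← zpow_mul]
          have h6 : (-4 : ℤ) * t = (x - 1) * (-s) := by
            rw [ht]
            have : (4 : ℤ) = d * s := by exact_mod_cast hs
            rw [this]; ring
          rw [h6, zpow_mul, hy1, one_zpow]
        rw [zpow_natCast, div_pow, div_eq_one_iff_eq (pow_ne_zero _ hy0)] at h5
        exact h5
      intro w hw
      rcases hmem w hw with rfl | rfl | rfl
      · rfl
      · exact hbN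
      · rw [← hbN, ← hfixN b hbM, hb]
  · left
    apply key
    intro w hw
    rcases struct_move hM hcard hy2 hyx hw with rfl | rfl
    · rfl
    · exact hfixN y hyM

end

end Cfsg.Agent.H402.Rec
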