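import Cfsg.Agent.H62.UFourPre
import Cfsg.Agent.H945.LFour
import Cfsg.Agent.H402.Rec.Spec
import Cfsg.Agent.H402.LwU43
import Cfsg.Agent.H414.SpecFrame
import Cfsg.Agent.S3585
import Cfsg.Agent.H359.OEightA

/-!
# Groups with the element orders of `PSU₄(3)` (written by helper62, task 2125 for S3461)
-/

set_option autoImplicit false

open Cfsg

namespace Cfsg.Agent.H402.UFourThreeRec

open Subgroup Cfsg.Agent.H164.NoPsl34 Cfsg.Agent.H414 Cfsg.Agent.H414.Comp Cfsg.Agent.H414.Vasiliev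
  Cfsg.Agent.H414.QuatSec Cfsg.Agent.H945.LFour Cfsg.Agent.H62.UFourPre

/-- **`PSL₃(4)` is not a factor.** -/
theorem no_psl34 {G : Type*} [Group G] [Finite G] (K : Subgroup G) [K.Normal]
    (S : Subgroup (G ⧸ K)) [S.Normal] (hSs : IsSimpleGroup ↥S) {F : Type*} [Field F]
    [Fintype F] (hF : Fintype.card F = 4) (e : ↥S ≃* Matrix.ProjectiveSpecialLinearGroup (Fin 3) F)
    (h7 : ¬ 7 ∣ Nat.card ↥K) (h9 : ∃ g : G, orderOf g = 9)
    (h7' : ∀ g : G, 7 ∣ orderOf g → orderOf g = 7) (h15 : ¬ ∃ g : G, orderOf g = 15) : False := by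
  have : Fact (Nat.Prime 7) := ⟨by norm_num⟩
  have : Fact (Nat.Prime 5) := ⟨by norm_num⟩
  have : Fact (Nat.Prime 3) := ⟨Nat.prime_three⟩
  have : Fact (Nat.Prime 2) := ⟨Nat.prime_two⟩
  obtain ⟨w, u, h⟩ := H366.LThreeFour.exists_isW hF
  have hcardP : ∀ m : ℕ, ¬ m ∣ 20160 → ¬ m ∣ Nat.card (Matrix.ProjectiveSpecialLinearGroup (Fin 3) F) := by
    intro m hm hcon
    apply hm
    have h2 := S0243.result (F := F) hF 3 (by norm_num)
    rw [Fin.prod_univ_three] at h2
    obtain ⟨k, hk⟩ := hcon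
    norm_num at h2
    refine ⟨k, ?_⟩
    rw [← hk]
    omega
  set s : G ⧸ K := ((e.symm (H366.LThreeFour.q (H366.LThreeFour.S1 h)) : S) : G ⧸ K) with hs
  set x : G ⧸ K := ((e.symm (H366.LThreeFour.q (H366.LThreeFour.X h)) : S) : G ⧸ K) with hx
  have hsS : s ∈ S := SetLike.coe_mem _
  have hxS : x ∈ S := SetLike.coe_mem _
  have hso : orderOf s = 7 := by
    rw [hs, Subgroup.orderOf_coe, MulEquiv.orderOf_eq, H366.LThreeFour.orderOf_S1 h]
  have hxs : x * s = s * s * x := by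
    rw [hx, hs, ← Subgroup.coe_mul, ← Subgroup.coe_mul, ← Subgroup.coe_mul, ← map_mul, ← map_mul, ← map_mul, ← map_mul,
      ← map_mul, ← map_mul, H366.LThreeFour.relT1 h]
  have hqX3 : H366.LThreeFour.q (H366.LThreeFour.X h) ^ 3 = 1 := by
    have : H366.LThreeFour.X h ^ 3 = H366.LThreeFour.X h * H366.LThreeFour.X h * H366.LThreeFour.X h := by
      simp only [pow_succ, pow_zero, one_mul]
    rw [← map_pow, this, H366.LThreeFour.relX h, map_one]
  have hqY3 : H366.LThreeFour.q (H366.LThreeFour.Y h) ^ 3 = 1 := by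
    have : H366.LThreeFour.Y h ^ 3 = H366.LThreeFour.Y h * H366.LThreeFour.Y h * H366.LThreeFour.Y h := by
      simp only [pow_succ, pow_zero, one_mul]
    rw [← map_pow, this, H366.LThreeFour.relY h, map_one]
  have hx3 : x ^ 3 = 1 := by
    rw [hx, ← Subgroup.coe_pow, ← map_pow, hqX3, map_one]
    rfl
  have hxo : orderOf x = 3 := by
    refine orderOf_eq_prime hx3 ?_
    intro h1
    rw [h1, one_mul, mul_one] at hxs
    have h2 : s = 1 := by
      have := hxs.symm
      exact mul_eq_left.1 this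
    rw [h2, orderOf_one] at hso
    norm_num at hso
  have hqX1 : H366.LThreeFour.q (H366.LThreeFour.X h) ≠ 1 := by
    intro h1
    have h2 : x = 1 := by
      rw [hx, h1, map_one]
      rfl
    rw [h2, orderOf_one] at hxo
    norm_num at hxo
  -- `K` is nilpotent
  obtain ⟨y, hy⟩ := lift_orderOf K ⟨s, hso⟩
  have hnil : Group.IsNilpotent K := by
    refine H366.Coclique.nilpotent_of_fpf K (y := y) (r := 7) (by norm_num) (by rw [← hy, pow_orderOf_eq_one]) ?_
    intro m hm hc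
    by_contra hne
    have h1 : orderOf m ≠ 1 := by rwa [Ne, orderOf_eq_one_iff]
    obtain ⟨t, ht, htm⟩ := Nat.exists_prime_and_dvd h1
    have htK : t ∣ Nat.card K := htm.trans (dvd_of_coe rfl hm)
    obtain ⟨j, hj⟩ := exists_orderOf_of_dvd htm
    have hcm : Commute y m := hc
    exact not_commute h7' ht (by rintro rfl; exact h7 htK) hy hj (hcm.pow_right j)
  -- three does not divide the order of `K`
  have h3K : ¬ 3 ∣ Nat.card K := by
    intro h3
    have hch : CharP F 2 := by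
      obtain ⟨p, hp⟩ := CharP.exists F
      obtain ⟨k, hk1, hk2⟩ := FiniteField.card F p
      have h1 : p ∣ 2 ^ 2 := by
        rw [show (2 : ℕ) ^ 2 = 4 by norm_num, ← hF, hk2]
        exact dvd_pow_self p k.ne_zero
      have h2 := (Nat.prime_dvd_prime_iff_eq hk1 (by norm_num)).1 (hk1.dvd_of_dvd_pow h1)
      rwa [h2] at hp
    obtain ⟨U, c, hU2, hU1, hn, hfix, hc⟩ := H363.L4.FrobP.exists_frob (F := F) (p := 2) (m := 2) (by norm_num)
    rw [Nat.card_eq_fintype_card, hF] at hc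
    let f : Matrix.ProjectiveSpecialLinearGroup (Fin 3) F →* G ⧸ K := S.subtype.comp e.symm.toMonoidHom
    have hf : Function.Injective f := S.subtype_injective.comp e.symm.injective
    have hfc : orderOf (f c) = orderOf c := orderOf_injective f hf c
    obtain ⟨z, hz⟩ := cover3 K S hSs hsS hso (U.map f) (by
        rintro _ ⟨a, -, rfl⟩
        exact SetLike.coe_mem (e.symm a)) (by
        rw [Ne, map_eq_bot_iff_of_injective U hf]
        exact hU1) (c := f c) (by
        rintro _ ⟨a, ha, rfl⟩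
        refine ⟨c * a * c⁻¹, hn a ha, ?_⟩
        rw [map_mul, map_mul, map_inv]) (by
        rintro i hi hic _ ⟨a, ha, rfl⟩ hcm
        rw [hfc] at hic
        have h1 : f (c ^ i * a) = f (a * c ^ i) := by
          rw [map_mul, map_mul, map_pow]
          exact hcm
        rw [hfix i hi hic a ha (hf h1), map_one]) (by
        have h1 : IsPGroup 2 ↥(U.map f) := hU2.map f
        obtain ⟨k, hk⟩ := (IsPGroup.iff_card (p := 2)).1 h1
        rw [hk]
        exact Nat.Coprime.pow_left k (by norm_num)) h7' h3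
    have h5 : 5 ∣ orderOf c := by
      have h6 : 5 ∣ orderOf c * Nat.gcd (2 + 1) (4 - 1) := (by norm_num : 5 ∣ 4 ^ 2 - 1).trans hc
      have h8 : Nat.gcd (2 + 1) (4 - 1) = 3 := by norm_num
      rw [h8] at h6
      exact (by norm_num : Nat.Coprime 5 3).dvd_of_dvd_mul_right h6
    obtain ⟨k, hk⟩ := exists_orderOf_of_dvd (g := z) (n := 15) (by
      rw [hz, hfc]
      exact Nat.mul_dvd_mul_right h5 3)
    exact h15 ⟨z ^ k, hk⟩
  -- an element of order nine in the quotient
  obtain ⟨z, hz⟩ := h9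
  set zb : G ⧸ K := QuotientGroup.mk' K z with hzb
  have hz9 : z ^ 9 = 1 := by rw [← hz, pow_orderOf_eq_one]
  have hzb9 : zb ^ 9 = 1 := by rw [hzb, ← map_pow, hz9, map_one]
  have hz3 : orderOf (z ^ 3) = 3 := by
    rw [orderOf_pow_of_dvd (by norm_num) (by rw [hz]; norm_num), hz]
  have hzb3 : zb ^ 3 ≠ 1 := by
    intro h1
    rw [hzb, ← map_pow] at h1
    exact h3K (dvd_of_coe hz3 ((QuotientGroup.eq_one_iff _).1 h1))
  have hzbo : orderOf zb = 9 := by
    have h1 : orderOf zb ∣ 3 ^ 2 := orderOf_dvd_of_pow_eq_one hzb9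
    obtain ⟨j, hj, hj'⟩ := (Nat.dvd_prime_pow Nat.prime_three).1 h1
    have h2 : ¬ orderOf zb ∣ 3 := fun h => hzb3 (orderOf_dvd_iff_pow_eq_one.1 h)
    rw [hj']
    rw [hj'] at h2
    interval_cases j
    · exact absurd (by norm_num) h2
    · exact absurd (by norm_num) h2
    · norm_num
  have hzS : zb ∉ S := by
    intro hcon
    have hcard27 : ¬ 27 ∣ Nat.card (Matrix.ProjectiveSpecialLinearGroup (Fin 3) F) := hcardP 27 (by norm_num)
    refine nine_cyclic hcard27 (g := e ⟨zb, hcon⟩) ?_ hqX3 hqY3 hqX1 ?_ ?_ ?_ ?_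
    · rw [MulEquiv.orderOf_eq, Subgroup.orderOf_mk, hzbo]
    · intro h1
      have := H366.LThreeFour.orderOf_Y h
      rw [h1, orderOf_one] at this
      norm_num at this
    · intro h1
      have h2 : H366.LThreeFour.q (H366.LThreeFour.Y h * (H366.LThreeFour.X h)⁻¹) = 1 := by
        rw [map_mul, map_inv, h1, mul_inv_cancel]
      have h3 := H366.LThreeFour.mem_center_off ((QuotientGroup.eq_one_iff _).1 h2) (i := 0) (j := 2) (by decide)
      have h4 : H366.LThreeFour.Y h * (H366.LThreeFour.X h)⁻¹ =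
          H366.LThreeFour.Y h * (H366.LThreeFour.X h * H366.LThreeFour.X h) := by
        congr 1
        rw [inv_eq_iff_mul_eq_one, ← mul_assoc, H366.LThreeFour.relX h]
      rw [h4, Matrix.SpecialLinearGroup.coe_mul, Matrix.SpecialLinearGroup.coe_mul, H366.LThreeFour.Y_coe,
        H366.LThreeFour.X_coe] at h3
      simp [Matrix.mul_apply, Fin.sum_univ_three, h.u0] at h3
    · intro h1
      have h2 : H366.LThreeFour.q (H366.LThreeFour.Y h * H366.LThreeFour.X h) = 1 := by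
        rw [map_mul, h1, ← pow_two, ← pow_succ, hqX3]
      have h3 := H366.LThreeFour.mem_center_off ((QuotientGroup.eq_one_iff _).1 h2) (i := 0) (j := 2) (by decide)
      rw [Matrix.SpecialLinearGroup.coe_mul, H366.LThreeFour.Y_coe, H366.LThreeFour.X_coe] at h3
      simp [Matrix.mul_apply, Fin.sum_univ_three, h.u0] at h3
    · rw [← map_mul, ← map_mul, H366.LThreeFour.relXY h, map_mul, map_mul, H366.LThreeFour.qZ h, one_mul, map_mul]
  have hcS : ¬ 49 ∣ Nat.card S := by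
    have h1 : Nat.card S = Nat.card (Matrix.ProjectiveSpecialLinearGroup (Fin 3) F) := Nat.card_congr e.toEquiv
    rw [h1]
    exact hcardP 49 (by norm_num)
  have h3S : 3 ∣ S.index := by
    have h1 : orderOf (QuotientGroup.mk' S zb) ∣ 3 ^ 2 :=
      (orderOf_map_dvd (QuotientGroup.mk' S) zb).trans (by rw [hzbo]; norm_num)
    obtain ⟨j, hj, hj'⟩ := (Nat.dvd_prime_pow Nat.prime_three).1 h1
    have h2 : orderOf (QuotientGroup.mk' S zb) ∣ Nat.card ((G ⧸ K) ⧸ S) := orderOf_dvd_natCard _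
    have hj0 : j ≠ 0 := by
      rintro rfl
      rw [pow_zero, orderOf_eq_one_iff] at hj'
      exact hzS ((QuotientGroup.eq_one_iff _).1 hj')
    rw [hj'] at h2
    exact (dvd_pow_self 3 hj0).trans h2
  exact outer3 S hsS hxS hso hxo hxs hcS h3S (seven_quot K h7')

/-! ### The orders -/

abbrev LU : List ℕ := [1, 2, 3, 4, 5, 6, 7, 8, 9, 12]

theorem orders {F : Type*} [Field F] [Fintype F] (hF : Fintype.card F = 9) (g : Cfsg.PSU 4 F 3) : orderOf g ∈ LU := by
  have hF3 : Fintype.card F = 3 ^ 2 := by rw [hF]; norm_num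
  have hch : CharP F 3 := H402.Uni.charP_of (q := 3) (t := 1) (f := 1) hF3 Nat.prime_three (by norm_num) le_rfl
  have hI : H403.IsL (Cfsg.PSU 4 F 3) false 4 3 F := ⟨MulEquiv.refl _⟩
  have hL := hI.lin (E := AlgebraicClosure F) hF3 (by norm_num)
  have h24 : orderOf g ≠ 24 := fun h => H402.U43.no_24 hL hF3 ⟨g, h⟩
  have h1 := H402.Rec.spec_three hL hF3 g
  have e1 : Nat.gcd 4 (H402.Rec.M1 false 3) = 4 := by decide
  have e3 : H402.Rec.M3 false 3 = 7 * 4 := by decide
  have e4 : H402.Rec.M4 false 3 = 5 * 4 := by decide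
  rw [e1, e3, e4] at h1
  generalize orderOf g = m at *
  rcases h1 with h1 | h1 | h1 | h1
  · have h2 : m ∣ 7 := Nat.dvd_of_mul_dvd_mul_right (by norm_num) h1
    rcases (Nat.dvd_prime (by norm_num)).1 h2 with rfl | rfl <;> decide
  · have h2 : m ∣ 5 := Nat.dvd_of_mul_dvd_mul_right (by norm_num) h1
    rcases (Nat.dvd_prime (by norm_num)).1 h2 with rfl | rfl <;> decide
  · have h2 : m ≤ 24 := Nat.le_of_dvd (by norm_num) h1
    have h3 : m ≠ 0 := by
      rintro rfl
      rw [zero_dvd_iff] at h1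
      exact absurd h1 (by norm_num)
    interval_cases m <;> first | decide | (exfalso; revert h1; decide) | (exfalso; exact h24 rfl) | exact absurd rfl h3
  · rw [h1]
    decide

theorem exists_order {F : Type*} [Field F] [Fintype F] (hF : Fintype.card F = 9) :
    (∃ g : Cfsg.PSU 4 F 3, orderOf g = 9) ∧ (∃ g : Cfsg.PSU 4 F 3, orderOf g = 8) ∧
      (∃ g : Cfsg.PSU 4 F 3, orderOf g = 5) ∧ ∃ g : Cfsg.PSU 4 F 3, orderOf g = 7 := by
  have hF3 : Fintype.card F = 3 ^ 2 := by rw [hF]; norm_num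
  have hI : H403.IsL (Cfsg.PSU 4 F 3) false 4 3 F := ⟨MulEquiv.refl _⟩
  refine ⟨?_, H402.U43.exists_8 hF3, ?_, ?_⟩
  · exact H402.Uni.exists_pow hI hF3 (by norm_num) (p := 3) (f := 1) (a := 2) Nat.prime_three (by norm_num) le_rfl
      (by norm_num) (by norm_num)
  · exact hI.exists_tor_le hF3 (by norm_num) (i := 4) (N := 5) (by norm_num) le_rfl (by norm_num) (by decide) (by decide)
  · exact hI.exists_tor_le hF3 (by norm_num) (i := 3) (N := 7) (by norm_num) (by norm_num) (by norm_num) (by decide)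
      (by decide)

open Cfsg.Agent.StdO8.Model (omCongr center_eq) in
open Cfsg.Agent.LieClassical.OrthFinite in
theorem oeight_equiv {F : Type*} [Field F] [Fintype F] (hF : Fintype.card F = 2) :
    Nonempty (Cfsg.POmega F (Cfsg.quadFormPlus 4 F) ≃* H359.OEight.Om8) := by
  have h : Fintype.card F = Fintype.card (ZMod 2) := by rw [hF, ZMod.card]
  have e : F ≃+* ZMod 2 := FiniteField.ringEquivOfCardEq h
  have e1 : Cfsg.POmega F (Cfsg.quadFormPlus 4 F) ≃* Cfsg.POmega (ZMod 2) (Cfsg.quadFormPlus 4 (ZMod 2)) :=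
    quotientCenterCongr (omCongr e)
  have e2 : Cfsg.POmega (ZMod 2) (Cfsg.quadFormPlus 4 (ZMod 2)) ≃*
      Cfsg.Omega (ZMod 2) (Cfsg.quadFormPlus 4 (ZMod 2)) :=
    (QuotientGroup.quotientMulEquivOfEq center_eq).trans QuotientGroup.quotientBot
  exact ⟨e1.trans e2⟩

/-! ### The theorem -/

/-- **Task 2125: groups with the element orders of `PSU₄(3)`.** -/
theorem u43 {G : Type*} [Group G] [Finite G] {F : Type*} [Field F] [Fintype F] (hF : Fintype.card F = 9)
    (h : Set.range (orderOf : G → ℕ) = Set.range (orderOf : Cfsg.PSU 4 F 3 → ℕ)) :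
    ∃ (K : Subgroup G) (_ : K.Normal), Group.IsSolvable ↥K ∧ ∃ S : Subgroup (G ⧸ K), S.Normal ∧
      Subgroup.centralizer (S : Set (G ⧸ K)) = ⊥ ∧ Nonempty (↥S ≃* Cfsg.PSU 4 F 3) := by
  obtain ⟨x9, x8, x5, x7⟩ := exists_order hF
  have hsub : ∀ n : ℕ, (∃ g : G, orderOf g = n) → n ∈ LU := by
    rintro n ⟨g, rfl⟩
    have h1 : orderOf g ∈ Set.range (orderOf : Cfsg.PSU 4 F 3 → ℕ) := by
      rw [← h]
      exact ⟨g, rfl⟩
    obtain ⟨y, hy⟩ := h1
    rw [← hy]
    exact orders hF y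
  have hex : ∀ n : ℕ, (∃ g : Cfsg.PSU 4 F 3, orderOf g = n) → ∃ g : G, orderOf g = n := by
    intro n hn
    have h1 : n ∈ Set.range (orderOf : Cfsg.PSU 4 F 3 → ℕ) := hn
    rw [← h] at h1
    exact h1
  have hdvd : ∀ n : ℕ, (∃ g : Cfsg.PSU 4 F 3, orderOf g = n) → n ∣ Nat.card G := by
    intro n hn
    obtain ⟨g, rfl⟩ := hex n hn
    exact orderOf_dvd_natCard g
  have d2 : 2 ∣ Nat.card G := (by norm_num : 2 ∣ 8).trans (hdvd 8 x8)
  have d5 : 5 ∣ Nat.card G := hdvd 5 x5
  have d7 : 7 ∣ Nat.card G := hdvd 7 x7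
  have hpr : ∀ p : ℕ, p.Prime → p ∣ Nat.card G → p ∈ ({2, 3, 5, 7} : Finset ℕ) := by
    intro p hp hd
    have := Fact.mk hp
    obtain ⟨g, hg⟩ := exists_prime_orderOf_dvd_card' p hd
    have h1 := hsub p ⟨g, hg⟩
    simp only [List.mem_cons, List.not_mem_nil, or_false] at h1
    rcases h1 with rfl | rfl | rfl | rfl | rfl | rfl | rfl | rfl | rfl | rfl <;>
      first | decide | (exfalso; revert hp; norm_num)
  have hρ : Coc G {2, 5, 7} := by
    constructor
    · intro r hr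
      simp only [Finset.mem_insert, Finset.mem_singleton] at hr
      rcases hr with rfl | rfl | rfl
      · exact ⟨by norm_num, d2⟩
      · exact ⟨by norm_num, d5⟩
      · exact ⟨by norm_num, d7⟩
    · intro r hr s hs hrs hcon
      have h1 := hsub _ hcon
      simp only [Finset.mem_insert, Finset.mem_singleton] at hr hs
      rcases hr with rfl | rfl | rfl <;> rcases hs with rfl | rfl | rfl <;>
        first | exact absurd rfl hrs | (revert h1; decide)
  have hρ3 : 3 ≤ ({2, 5, 7} : Finset ℕ).card := by decide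
  have hG : ¬ Group.IsSolvable G := by
    have h1 : Group.IsSolvable ↥(⊥ : Subgroup G) := inferInstance
    exact (Cfsg.Agent.S3633.result ({2, 5, 7} : Finset ℕ) hρ3 hρ ⊥ h1).2
  obtain ⟨K, hKn, hKs, hKmax⟩ := Cfsg.Agent.H414.Spec.exists_radical G
  have h5K : ¬ 5 ∣ Nat.card ↥K := not_dvd_rad K hKs hG hKmax hρ hρ3 (by decide) (p := 5) (by decide) (by decide)
  have h7K : ¬ 7 ∣ Nat.card ↥K := not_dvd_rad K hKs hG hKmax hρ hρ3 (by decide) (p := 7) (by decide) (by decide)
  have hnt := nontrivial_quot hG K hKs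
  have hcard : Nat.card G = Nat.card (G ⧸ K) * Nat.card ↥K := Subgroup.card_eq_card_quotient_mul_card_subgroup K
  have hq : ∀ n : ℕ, (∃ g : G ⧸ K, orderOf g = n) → n ∈ LU := fun n hn =>
    hsub n (H164.NoPsl34.lift_orderOf K hn)
  have hmem : ∀ p ∈ ({5, 7} : Finset ℕ), p.Prime ∧ p ≠ 2 ∧ p ∣ Nat.card (G ⧸ K) ∧ ¬ ∃ x : G ⧸ K, orderOf x = 2 * p := by
    intro p hp
    simp only [Finset.mem_insert, Finset.mem_singleton] at hp
    rcases hp with rfl | rfl
    · refine ⟨by norm_num, by decide, ?_, fun hx => absurd (hq _ hx) (by decide)⟩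
      have h1 := d5
      rw [hcard] at h1
      exact ((by norm_num : Nat.Prime 5).dvd_mul.1 h1).resolve_right h5K
    · refine ⟨by norm_num, by decide, ?_, fun hx => absurd (hq _ hx) (by decide)⟩
      have h1 := d7
      rw [hcard] at h1
      exact ((by norm_num : Nat.Prime 7).dvd_mul.1 h1).resolve_right h7K
  obtain ⟨a1, a2, a3, a4⟩ := hmem 7 (by decide)
  obtain ⟨b1, b2, b3, b4⟩ := hmem 5 (by decide)
  obtain ⟨S, hS, hSn, h7S, h7i, hSc⟩ := structure_of_dvd (quot_radical K hKs hKmax) good_comp a1 a2 a3 a4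
  obtain ⟨T, hT, hTn, h5T, h5i, hTc⟩ := structure_of_dvd (quot_radical K hKs hKmax) good_comp b1 b2 b3 b4
  have hTS : T = S := eq_of_normal hS hT hSn hTn hSc
  subst hTS
  have hsimple := hT.simple
  have hna : ¬ IsMulCommutative ↥T := by
    rintro ⟨⟨hc⟩⟩
    obtain ⟨a, b, hab⟩ := hT.noncomm
    exact hab (hc a b)
  have hTG : Nat.card ↥T ∣ Nat.card G := (Subgroup.card_subgroup_dvd_card T).trans
    (Subgroup.card_quotient_dvd_card K)
  have hpf : (Nat.card ↥T).primeFactors ⊆ {2, 3, 5, 7} := by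
    intro p hp
    exact hpr p (Nat.prime_of_mem_primeFactors hp) ((Nat.dvd_of_mem_primeFactors hp).trans hTG)
  have h3T := three_dvd hna hpf h7S
  have heq : (Nat.card ↥T).primeFactors = {2, 3, 5, 7} := by
    apply Finset.Subset.antisymm hpf
    intro p hp
    have hc0 : Nat.card ↥T ≠ 0 := Nat.card_pos.ne'
    simp only [Finset.mem_insert, Finset.mem_singleton] at hp
    rcases hp with rfl | rfl | rfl | rfl
    · exact Nat.mem_primeFactors.2 ⟨by norm_num, hT.two_dvd, hc0⟩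
    · exact Nat.mem_primeFactors.2 ⟨by norm_num, h3T, hc0⟩
    · exact Nat.mem_primeFactors.2 ⟨by norm_num, h5T, hc0⟩
    · exact Nat.mem_primeFactors.2 ⟨by norm_num, h7S, hc0⟩
  have hlift : ∀ {X : Type} [Group X], (↥T ≃* X) → ∀ n : ℕ, (∃ x : X, orderOf x = n) → n ∈ LU := by
    intro X _ e n hn
    obtain ⟨x, hx⟩ := hn
    refine hq n ⟨(e.symm x : ↥T), ?_⟩
    rw [Subgroup.orderOf_coe, MulEquiv.orderOf_eq, hx]
  have h7' : ∀ g : G, 7 ∣ orderOf g → orderOf g = 7 := by
    intro g hg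
    have h1 := hsub (orderOf g) ⟨g, rfl⟩
    generalize orderOf g = m at *
    simp only [List.mem_cons, List.not_mem_nil, or_false] at h1
    rcases h1 with rfl | rfl | rfl | rfl | rfl | rfl | rfl | rfl | rfl | rfl <;>
      first | rfl | (exfalso; revert hg; decide)
  -- no alternating factor
  have halt : ∀ n, ¬ Nonempty (↥T ≃* alternatingGroup (Fin n)) := by
    rintro n ⟨e⟩
    obtain ⟨X, hX, N, hN, ⟨f⟩⟩ := Cfsg.Agent.H414.SpecFrame.exists_factor T
    have h1 : IsSimpleGroup (X ⧸ N) := (f.isSimpleGroup_congr).2 hsimple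
    refine S3585.result (n := 4) (F := F) (L := Cfsg.PSU 4 F 3) (by norm_num)
      (Or.inr ⟨3, by norm_num, by rw [hF]; norm_num, ⟨MulEquiv.refl _⟩⟩) h X hX.isSubnormal N h1 ?_ n ⟨f.trans e⟩
    intro hc
    apply hna
    have hc' := isMulCommutative_iff.1 hc
    refine isMulCommutative_iff.2 fun x y => ?_
    apply f.symm.injective
    rw [map_mul, map_mul, hc']
  refine ⟨K, hKn, hKs, T, hTn, hTc, ?_⟩
  rcases Cfsg.Agent.S3720.result hna heq with e | e | e | e | ⟨e⟩ | ⟨F', _, _, hF', ⟨e⟩⟩ | ⟨F', _, _, hF', ⟨e⟩⟩ |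
    ⟨F', _, _, hF', ⟨e⟩⟩ | ⟨F', _, _, hF', ⟨e⟩⟩ | ⟨F', _, _, hF', ⟨e⟩⟩ | ⟨F', _, _, hF', ⟨e⟩⟩ | ⟨F', _, _, hF', ⟨e⟩⟩
  · exact (halt 7 e).elim
  · exact (halt 8 e).elim
  · exact (halt 9 e).elim
  · exact (halt 10 e).elim
  · obtain ⟨e'⟩ := e
    exact absurd (hlift e' 10 (H379.J2Spec.exists_order H379.J2Spec.o10)) (by decide)
  · have : Fact (Nat.Prime 7) := ⟨by norm_num⟩
    have : CharP F' 7 := by
      obtain ⟨p, hp⟩ := CharP.exists F'
      obtain ⟨k, hk1, hk2⟩ := FiniteField.card F' p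
      have h1 : p ∣ 7 ^ 2 := by
        rw [show (7 : ℕ) ^ 2 = 49 by norm_num, ← hF', hk2]
        exact dvd_pow_self p k.ne_zero
      have h2 := (Nat.prime_dvd_prime_iff_eq hk1 (by norm_num)).1 (hk1.dvd_of_dvd_pow h1)
      rwa [h2] at hp
    have h1 : 25 ∈ Set.range (orderOf : Matrix.ProjectiveSpecialLinearGroup (Fin 2) F' → ℕ) := by
      rw [S2475.result (F := F') 7 (by rw [hF']; norm_num), hF']
      exact Or.inr (Or.inr (by decide))
    exact absurd (hlift e 25 h1) (by decide)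
  · exact (no_psl34 K T hsimple hF' e h7K (hex 9 x9) h7' (fun h15 => absurd (hsub 15 h15) (by decide))).elim
  · have : Fact (Nat.Prime 7) := ⟨by norm_num⟩
    have h1 : ∃ g : PSp 2 F', orderOf g = 14 :=
      H164.ExplElt.transport (LieClassical.FieldTransfer.pspCongr 2 (ZMod.ringEquivOfPrime F' (by norm_num) hF'))
        H422.Elim.psp_two_seven
    exact absurd (hlift e 14 h1) (by decide)
  · obtain ⟨eS⟩ := Cfsg.Agent.StandardComponent.SpTwoAut.exists_equiv hF'
    obtain ⟨g, hg⟩ := H359.SpSix.hall 15 (by decide)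
    exact absurd (hlift e 15 ⟨eS.symm g, by rw [MulEquiv.orderOf_eq, hg]⟩) (by decide)
  · obtain ⟨eO⟩ := oeight_equiv hF'
    obtain ⟨g, hg⟩ := H359.OEight.hall 15 (by decide)
    exact absurd (hlift e 15 ⟨eO.symm g, by rw [MulEquiv.orderOf_eq, hg]⟩) (by decide)
  · have : Fact (Nat.Prime 5) := ⟨by norm_num⟩
    have : CharP F' 5 := by
      obtain ⟨p, hp⟩ := CharP.exists F'
      obtain ⟨k, hk1, hk2⟩ := FiniteField.card F' p
      have h1 : p ∣ 5 ^ 2 := by
        rw [show (5 : ℕ) ^ 2 = 25 by norm_num, ← hF', hk2]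
        exact dvd_pow_self p k.ne_zero
      have h2 := (Nat.prime_dvd_prime_iff_eq hk1 (by norm_num)).1 (hk1.dvd_of_dvd_pow h1)
      rwa [h2] at hp
    have h1 : 10 ∈ Set.range (orderOf : Cfsg.PSU 3 F' 5 → ℕ) := by
      rw [S2366.result (F := F') 5 (by norm_num) 5 (by rw [hF']; norm_num)]
      exact Or.inl (Or.inl (Or.inr (by decide)))
    exact absurd (hlift e 10 h1) (by decide)
  · have hFF : Fintype.card F' = Fintype.card F := by rw [hF', hF]
    exact ⟨e.trans (LieClassical.FieldTransfer.psuCongr 4 3 (FiniteField.ringEquivOfCardEq hFF))⟩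

end Cfsg.Agent.H402.UFourThreeRec
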